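import Groth.Agent.H26.CIInvariant
import Mathlib.RingTheory.LocalRing.Length
import Mathlib.LinearAlgebra.TensorProduct.RightExactness
import Mathlib.LinearAlgebra.TensorProduct.Pi
import Mathlib.RingTheory.Flat.Basic

/-!
# The first Koszul homology under flat base change
-/

set_option autoImplicit false
set_option backward.isDefEq.respectTransparency false

universe u

open IsLocalRing
open scoped TensorProduct

namespace Groth.Agent.Lib.RG57.GeomDepth.H1Flat

open Groth.Agent.H26.CIInvariant

variable {A B : Type u} [CommRing A] [CommRing B] [Algebra A B] {M : Type u} [AddCommGroup M] [Module A M]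

/-- The base change of a linear form. -/
noncomputable def bcForm (B : Type u) [CommRing B] [Algebra A B] (f : M →ₗ[A] A) : B ⊗[A] M →ₗ[B] B :=
  (TensorProduct.AlgebraTensorModule.rid A B B).toLinearMap ∘ₗ f.baseChange B

@[simp] theorem bcForm_tmul (f : M →ₗ[A] A) (b : B) (m : M) : bcForm B f (b ⊗ₜ m) = f m • b := by
  simp [bcForm]

theorem bd_bcForm (f : M →ₗ[A] A) : bd (bcForm B f) = (bd f).baseChange B := by
  refine le_antisymm ?_ ?_
  · rw [bd, Submodule.span_le]
    rintro _ ⟨⟨a, b⟩, rfl⟩
    show bcForm B f a • b - bcForm B f b • a ∈ (bd f).baseChange B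
    induction a using TensorProduct.induction_on with
    | zero => simp
    | add a₁ a₂ h₁ h₂ =>
      rw [show bcForm B f (a₁ + a₂) • b - bcForm B f b • (a₁ + a₂) =
        (bcForm B f a₁ • b - bcForm B f b • a₁) + (bcForm B f a₂ • b - bcForm B f b • a₂) by
          rw [map_add, add_smul, smul_add]; abel]
      exact add_mem h₁ h₂
    | tmul c m =>
      induction b using TensorProduct.induction_on with
      | zero => simp
      | add b₁ b₂ h₁ h₂ =>
        rw [show bcForm B f (c ⊗ₜ[A] m) • (b₁ + b₂) - bcForm B f (b₁ + b₂) • (c ⊗ₜ[A] m) =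
          (bcForm B f (c ⊗ₜ[A] m) • b₁ - bcForm B f b₁ • (c ⊗ₜ[A] m)) +
            (bcForm B f (c ⊗ₜ[A] m) • b₂ - bcForm B f b₂ • (c ⊗ₜ[A] m)) by
            rw [map_add, add_smul, smul_add]; abel]
        exact add_mem h₁ h₂
      | tmul d n =>
        rw [bcForm_tmul, bcForm_tmul, TensorProduct.smul_tmul', TensorProduct.smul_tmul', smul_eq_mul,
          smul_eq_mul, Algebra.smul_def, Algebra.smul_def, mul_assoc, mul_assoc, ← Algebra.smul_def,
          ← Algebra.smul_def, TensorProduct.smul_tmul, TensorProduct.smul_tmul, mul_comm d c,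
          ← TensorProduct.tmul_sub]
        exact Submodule.tmul_mem_baseChange_of_mem _ (mem_bd f m n)
  · rw [Submodule.baseChange_eq_span, Submodule.span_le]
    rintro _ ⟨v, hv, rfl⟩
    induction hv using Submodule.span_induction with
    | mem y hy =>
      obtain ⟨⟨a, b⟩, rfl⟩ := hy
      have h := mem_bd (bcForm B f) ((1 : B) ⊗ₜ[A] a) ((1 : B) ⊗ₜ[A] b)
      rw [bcForm_tmul, bcForm_tmul, smul_assoc, smul_assoc, one_smul, one_smul] at h
      simpa [TensorProduct.tmul_sub, TensorProduct.tmul_smul] using h
    | zero => simp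
    | add a b _ _ ha hb => rw [map_add]; exact add_mem ha hb
    | smul c a _ ha =>
      rw [map_smul]
      exact Submodule.smul_of_tower_mem _ c ha

theorem ker_bcForm [Module.Flat A B] (f : M →ₗ[A] A) :
    LinearMap.ker (bcForm B f) = (LinearMap.ker f).baseChange B := by
  ext z
  have hex : Function.Exact ((LinearMap.ker f).subtype.lTensor B) (f.lTensor B) :=
    Module.Flat.lTensor_exact B (LinearMap.exact_subtype_ker_map f)
  show (TensorProduct.AlgebraTensorModule.rid A B B) (f.baseChange B z) = 0 ↔ _
  rw [LinearEquiv.map_eq_zero_iff, LinearMap.baseChange_eq_ltensor, hex z]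
  exact Iff.rfl

theorem h1_eq_length {N Q : Type u} [AddCommGroup N] [Module B N] [AddCommGroup Q] [Module B Q]
    (g : N →ₗ[B] B) (ι : Q →ₗ[B] N) (h : LinearMap.range ι = LinearMap.ker g) :
    h1 g = Module.length B (Q ⧸ (bd g).comap ι) := by
  let ι' : Q →ₗ[B] LinearMap.ker g := LinearMap.codRestrict _ ι fun z => h ▸ ⟨z, rfl⟩
  have hι' : Function.Surjective ι' := fun z => by
    obtain ⟨y, hy⟩ : (z : N) ∈ LinearMap.range ι := h.symm ▸ z.2
    exact ⟨y, Subtype.ext hy⟩
  let Ψ : Q →ₗ[B] LinearMap.ker g ⧸ (bd g).comap (LinearMap.ker g).subtype := Submodule.mkQ _ ∘ₗ ι'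
  have hΨ : Function.Surjective Ψ := (Submodule.mkQ_surjective _).comp hι'
  have hk : (bd g).comap ι = LinearMap.ker Ψ := by
    simp only [Ψ, LinearMap.ker_comp, Submodule.ker_mkQ, ← Submodule.comap_comp]
    rfl
  rw [(Submodule.quotEquivOfEq _ _ hk).length_eq, (Ψ.quotKerEquivOfSurjective hΨ).length_eq]
  rfl

theorem h1_bcForm [IsLocalRing A] [IsLocalRing B] [IsLocalHom (algebraMap A B)] [Module.Flat A B]
    (hm : (maximalIdeal A).map (algebraMap A B) = maximalIdeal B) (f : M →ₗ[A] A) :
    h1 (bcForm B f) = h1 f := by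
  let K := LinearMap.ker f
  let P : Submodule A K := (bd f).comap K.subtype
  have hι : Function.Injective ((LinearMap.ker f).subtype.baseChange B) := by
    rw [LinearMap.baseChange_eq_ltensor]
    exact Module.Flat.lTensor_preserves_injective_linearMap _ Subtype.val_injective
  let Φ : B ⊗[A] K →ₗ[B] B ⊗[A] (K ⧸ P) := P.mkQ.baseChange B
  have hΦ : Function.Surjective Φ := LinearMap.lTensor_surjective B P.mkQ_surjective
  have hk : LinearMap.ker Φ = (bd (bcForm B f)).comap (K.subtype.baseChange B) := by
    ext z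
    have e1 : z ∈ LinearMap.ker Φ ↔ z ∈ LinearMap.range (P.subtype.baseChange B) :=
      (lTensor_exact B (LinearMap.exact_subtype_mkQ P) P.mkQ_surjective) z
    rw [e1, Submodule.mem_comap, bd_bcForm]
    constructor
    · rintro ⟨w, rfl⟩
      have hle : LinearMap.range (K.subtype.baseChange B ∘ₗ P.subtype.baseChange B) ≤ (bd f).baseChange B := by
        rw [← LinearMap.baseChange_comp]
        let j : P →ₗ[A] bd f := LinearMap.codRestrict _ (K.subtype ∘ₗ P.subtype) fun p => p.2
        rw [show K.subtype ∘ₗ P.subtype = (bd f).subtype ∘ₗ j from rfl, LinearMap.baseChange_comp]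
        exact LinearMap.range_comp_le_range _ _
      exact hle ⟨w, rfl⟩
    · intro hz
      let j : bd f →ₗ[A] P :=
        LinearMap.codRestrict P (LinearMap.codRestrict K (bd f).subtype fun p => bd_le_ker f p.2) fun p => p.2
      obtain ⟨w, hw⟩ := hz
      refine ⟨j.baseChange B w, hι ?_⟩
      rw [← LinearMap.comp_apply, ← LinearMap.comp_apply, ← LinearMap.baseChange_comp,
        ← LinearMap.baseChange_comp]
      exact hw
  have hl : h1 (bcForm B f) = Module.length B (B ⊗[A] (K ⧸ P)) := by
    rw [h1_eq_length (bcForm B f) (K.subtype.baseChange B) (ker_bcForm f).symm,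
      ← (Submodule.quotEquivOfEq _ _ hk).length_eq, (Φ.quotKerEquivOfSurjective hΦ).length_eq]
  rw [hl, IsLocalRing.length_baseChange, hm]
  have : IsSimpleModule B (B ⧸ maximalIdeal B) :=
    isSimpleModule_iff_isCoatom.mpr (maximalIdeal.isMaximal _).out
  rw [Module.length_eq_one B (B ⧸ maximalIdeal B), mul_one]
  rfl

/-- `h1` of a sequence is unchanged along a flat local map with trivial closed fibre. -/
theorem h1_map [IsLocalRing A] [IsLocalRing B] [IsLocalHom (algebraMap A B)] [Module.Flat A B]
    (hm : (maximalIdeal A).map (algebraMap A B) = maximalIdeal B) {n : ℕ} (x : Fin n → A) :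
    h1 (Fintype.linearCombination B fun i => algebraMap A B (x i)) = h1 (Fintype.linearCombination A x) := by
  classical
  let e := TensorProduct.piScalarRight A B B (Fin n)
  rw [← h1_bcForm (B := B) hm (Fintype.linearCombination A x), ← h1_comp_equiv _ e]
  congr 1
  apply LinearMap.ext
  intro z
  induction z using TensorProduct.induction_on with
  | zero => simp
  | add a b ha hb => rw [map_add, map_add, ha, hb]
  | tmul b v =>
    simp [e, Fintype.linearCombination_apply, Algebra.smul_def, mul_comm, Finset.mul_sum, mul_left_comm]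

end Groth.Agent.Lib.RG57.GeomDepth.H1Flat
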