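import Groth.Agent.Lib.RG57.GeomDepth.H1Flat
import Groth.Agent.Lib.Regular.Completion

/-!
# The geometric depth through the first Koszul homology
-/

set_option autoImplicit false

universe u

open IsLocalRing RingTheory.Sequence

namespace Groth.Agent.Lib.RG57.GeomDepth.Main

open Groth.Agent.H26.CIInvariant

theorem exists_regular_gens (B : Type u) [CommRing B] [IsRegularLocalRing B] (n : ℕ) (hn : ringKrullDim B = n) :
    ∃ x : Fin n → B, IsWeaklyRegular B (List.ofFn x) ∧ Ideal.span (Set.range x) = maximalIdeal B := by
  obtain ⟨x, hx⟩ : ∃ x : Fin n → B, Ideal.span (Set.range x) = maximalIdeal B := by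
    have h := IsRegularLocalRing.spanFinrank_maximalIdeal (R := B)
    rw [hn] at h
    have h' : (maximalIdeal B).spanFinrank = n := by exact_mod_cast h
    have hfg : (maximalIdeal B).FG := (maximalIdeal B).fg_of_isNoetherianRing
    let s := (maximalIdeal B).generators
    have : Finite s := Submodule.FG.finite_generators hfg
    have hc : Nat.card s = n := by
      rw [Nat.card_coe_set_eq]
      exact (Submodule.FG.generators_ncard hfg).trans h'
    let e := (Finite.equivFinOfCardEq hc).symm
    refine ⟨fun i => (e i).1, ?_⟩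
    rw [show Set.range (fun i => ((e i).1 : B)) = s from by
      rw [Set.range_comp' Subtype.val e, e.surjective.range_eq, Set.image_univ, Subtype.range_coe]]
    exact Submodule.span_generators _
  refine ⟨x, (Groth.Agent.Lib.Regular.Quotient.isRegular_of_span_eq_maximalIdeal (List.ofFn x)
    ?_ ?_).toIsWeaklyRegular, hx⟩
  · rw [Ideal.ofList, ← hx]; congr 1; ext; simp [List.mem_ofFn]
  · have h := IsRegularLocalRing.spanFinrank_maximalIdeal (R := B)
    rw [hn] at h
    rw [List.length_ofFn]
    exact (WithBot.coe_injective.eq_iff.mp h |> fun e => by exact_mod_cast e.symm)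

theorem range_eq {R : Type u} [CommRing R] {n : ℕ} (x : Fin n → R) :
    LinearMap.range (Fintype.linearCombination R x) = Ideal.span (Set.range x) :=
  Fintype.range_linearCombination R x

/-- For any presentation of the completion by a regular ring. -/
theorem h1_add_eq_of_presentation (A : Type u) [CommRing A] [IsLocalRing A] [IsNoetherianRing A]
    {n : ℕ} (x : Fin n → A) (hx : Ideal.span (Set.range x) = maximalIdeal A)
    (B : Type u) [CommRing B] [IsRegularLocalRing B] (I : Ideal B)
    (ψ : AdicCompletion (maximalIdeal A) A ≃+* B ⧸ I) (e : ℕ) (he : ringKrullDim B = (e : WithBot ℕ∞)) :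
    h1 (Fintype.linearCombination A x) + e = (I.spanFinrank : ℕ∞) + n := by
  have hne : maximalIdeal A ≠ ⊤ := Ideal.IsPrime.ne_top'
  haveI := Groth.Agent.Lib.Regular.Completion.isLocalRing (maximalIdeal A) hne
  haveI := Groth.Agent.Lib.Regular.Completion.isLocalHom (maximalIdeal A) hne
  have hm := Groth.Agent.Lib.Regular.Completion.map_maximalIdeal (maximalIdeal A) hne
  have hnt : Nontrivial (B ⧸ I) := ψ.injective.nontrivial
  haveI : IsLocalRing (B ⧸ I) := .of_surjective' (Ideal.Quotient.mk I) Ideal.Quotient.mk_surjective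
  have hI : I ≤ maximalIdeal B := le_maximalIdeal (Ideal.Quotient.nontrivial_iff.mp hnt)
  obtain ⟨y, hyr, hy⟩ := exists_regular_gens B e he
  rw [← H1Flat.h1_map hm x, ← h1_ringEquiv ψ fun i => algebraMap A (AdicCompletion (maximalIdeal A) A) (x i),
    ← h1_eq_spanFinrank y hyr hy I hI]
  refine h1_add_eq _ _ ?_ ?_
  · rw [range_eq, ← IsLocalRing.map_maximalIdeal_of_surjective ψ.toRingHom ψ.surjective,
      ← hm, ← congrArg (Ideal.map (algebraMap A (AdicCompletion (maximalIdeal A) A))) hx,
      Ideal.map_map, Ideal.map_span, ← Set.range_comp']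
    rfl
  · rw [range_eq, ← IsLocalRing.map_maximalIdeal_of_surjective (Ideal.Quotient.mk I) Ideal.Quotient.mk_surjective,
      ← hy, Ideal.map_span, ← Set.range_comp']

/-- The geometric depth is invariant under flat local maps with trivial closed fibre. -/
theorem sub_eq_of_flat (A A' : Type u) [CommRing A] [IsLocalRing A] [IsNoetherianRing A] [CommRing A']
    [IsLocalRing A'] [IsNoetherianRing A'] [Algebra A A'] [IsLocalHom (algebraMap A A')] [Module.Flat A A']
    (hmax : (maximalIdeal A).map (algebraMap A A') = maximalIdeal A')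
    (B B' : Type u) [CommRing B] [IsRegularLocalRing B] [CommRing B'] [IsRegularLocalRing B']
    (I : Ideal B) (I' : Ideal B') (ψ : AdicCompletion (maximalIdeal A) A ≃+* B ⧸ I)
    (ψ' : AdicCompletion (maximalIdeal A') A' ≃+* B' ⧸ I') (e e' : ℕ)
    (he : ringKrullDim B = (e : WithBot ℕ∞)) (he' : ringKrullDim B' = (e' : WithBot ℕ∞)) :
    (e : ℤ) - (I.spanFinrank : ℤ) = (e' : ℤ) - (I'.spanFinrank : ℤ) := by
  obtain ⟨n, x, hx⟩ := Submodule.fg_iff_exists_fin_generating_family.1 (maximalIdeal A).fg_of_isNoetherianRing
  have hx' : Ideal.span (Set.range fun i => algebraMap A A' (x i)) = maximalIdeal A' := by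
    rw [← hmax, ← hx, ← Ideal.span, Ideal.map_span, ← Set.range_comp']
  have h := h1_add_eq_of_presentation A x hx B I ψ e he
  have h' := h1_add_eq_of_presentation A' _ hx' B' I' ψ' e' he'
  rw [H1Flat.h1_map hmax x] at h'
  generalize h1 (Fintype.linearCombination A x) = d at h h'
  induction d using ENat.recTopCoe with
  | top => exact absurd h (by simp [← Nat.cast_add])
  | coe d =>
    have a : d + e = I.spanFinrank + n := by exact_mod_cast h
    have a' : d + e' = I'.spanFinrank + n := by exact_mod_cast h'
    omega

end Groth.Agent.Lib.RG57.GeomDepth.Main
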